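import Groth.Agent.H20Inf.Unipotent
import Groth.Agent.H20Comod.Slices

/-!
Infinitesimal criteria for invariance in comodules of a unipotent group in characteristic zero.
-/

set_option autoImplicit false
set_option backward.isDefEq.respectTransparency false

universe u w

open TensorProduct HopfRep
open Groth.Agent.H20Comod

namespace Groth.Agent.H20Inf

noncomputable section

variable {k : Type u} [Field k] {A : Type u} [CommRing A] [HopfAlgebra k A]
variable {V : Type w} [AddCommGroup V] [Module k V]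

theorem rid_lTensor (ξ : LieHopf.Lie k A) (z : V ⊗[k] A) :
    TensorProduct.rid k V (LinearMap.lTensor V (ξ.toLinearMap.restrictScalars k) z) = sliceR (lin ξ) z := by
  induction z using TensorProduct.induction_on with
  | zero => simp
  | tmul v a => rfl
  | add x y hx hy => rw [map_add, map_add, map_add]; exact congrArg₂ (· + ·) hx hy

theorem lTensor_eq_tmul (ξ : LieHopf.Lie k A) (z : V ⊗[k] A) :
    LinearMap.lTensor V (ξ.toLinearMap.restrictScalars k) z = sliceR (lin ξ) z ⊗ₜ[k] (1 : k) := by
  refine (TensorProduct.rid k V).injective ?_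
  rw [rid_lTensor]
  exact (TensorProduct.rid_tmul (R := k) _ _).trans (one_smul _ _) |>.symm

variable [Comod k A V] [IsAlgClosed k] [CharZero k] [Algebra.FiniteType k A]

theorem coact_eq_of_forall_actL (hU : IsUnipotent k A) {v : V}
    (h : ∀ ξ : LieHopf.Lie k A, actL (lin ξ) v = 0) :
    Comod.coact (k := k) (A := A) v = v ⊗ₜ[k] (1 : A) := by
  refine eq_of_forall_sliceL fun g => ?_
  rw [sliceL_tmul]
  have h1 := eq_algebraMap_of_forall_actL hU (a := sliceL g (Comod.coact (k := k) (A := A) v)) fun ξ => by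
    rw [actL_coef, h, map_zero, map_zero]
  rw [h1, ← apply_sliceR_eq_apply_sliceL, ← actL_apply, actL_counit]

theorem isSubcomod_of_stable (hU : IsUnipotent k A) (W : Submodule k V)
    (h : ∀ (ξ : LieHopf.Lie k A), ∀ v ∈ W, actL (lin ξ) v ∈ W) : IsSubcomod (k := k) (A := A) W := by
  intro v hv
  rw [mem_range_rTensor_subtype_iff_sliceL]
  intro g hg
  refine eq_zero_of_stable hU (W.map (sliceL g ∘ₗ Comod.coact (k := k) (A := A))) ?_ ?_
    (Submodule.mem_map_of_mem hv)
  · rintro ξ _ ⟨w, hw, rfl⟩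
    refine ⟨actL (lin ξ) w, h ξ w hw, ?_⟩
    exact (actL_coef (lin ξ) g w).symm
  · rintro _ ⟨w, hw, rfl⟩
    show CoalgebraStruct.counit (R := k) (sliceL g (Comod.coact (k := k) (A := A) w)) = 0
    rw [← apply_sliceR_eq_apply_sliceL, ← actL_apply, actL_counit]
    exact hg w hw

theorem coact_intertwine {V' : Type w} [AddCommGroup V'] [Module k V'] [Comod k A V']
    (hU : IsUnipotent k A) (e : V →ₗ[k] V')
    (h : ∀ (ξ : LieHopf.Lie k A) (v : V), actL (lin ξ) (e v) = e (actL (lin ξ) v)) (v : V) :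
    Comod.coact (k := k) (A := A) (e v) = e.rTensor A (Comod.coact (k := k) (A := A) v) := by
  refine eq_of_forall_sliceL fun g => sub_eq_zero.1 ?_
  rw [sliceL_rTensor]
  refine eq_zero_of_stable hU (LinearMap.range (sliceL g ∘ₗ Comod.coact (k := k) (A := A) ∘ₗ e -
    sliceL (g ∘ₗ e) ∘ₗ Comod.coact (k := k) (A := A))) ?_ ?_ ⟨v, rfl⟩
  · rintro ξ _ ⟨w, rfl⟩
    refine ⟨actL (lin ξ) w, ?_⟩
    simp only [LinearMap.sub_apply, LinearMap.comp_apply, map_sub, actL_coef, h]
  · rintro _ ⟨w, rfl⟩
    simp only [LinearMap.sub_apply, LinearMap.comp_apply, map_sub]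
    rw [← apply_sliceR_eq_apply_sliceL, ← apply_sliceR_eq_apply_sliceL, ← actL_apply, ← actL_apply, actL_counit,
      actL_counit]
    exact sub_self _

end

end Groth.Agent.H20Inf
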