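import Groth.Prelude.Def_Lie2
import Groth.Agent.H20Comod.Coconn
import Groth.Agent.H20Comod.OrbitClosure
import Groth.Agent.H19Grp.HopfReduced

/-!
Infinitesimal detection of invariance for unipotent groups in characteristic zero: a space of functions stable
under all invariant derivations and vanishing at the unit is zero.
-/

set_option autoImplicit false
set_option linter.style.haveILetI false
set_option backward.isDefEq.respectTransparency false

universe u w

open TensorProduct HopfRep
open Groth.Agent.H20Comod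
open Groth.Agent.H19Grp.HopfReduced (T T_apply T_antipode counit_T)

namespace Groth.Agent.H20Inf

noncomputable section

variable {k : Type u} [Field k] {A : Type u} [CommRing A] [HopfAlgebra k A]

/-- An element of the Lie algebra as a linear form. -/
def lin (ξ : LieHopf.Lie k A) : A →ₗ[k] k where
  toFun a := ξ a
  map_add' a b := map_add ξ a b
  map_smul' c a := ξ.map_smul c a

theorem lin_mul (ξ : LieHopf.Lie k A) (a b : A) :
    lin ξ (a * b) = Bialgebra.counitAlgHom k A a * lin ξ b + Bialgebra.counitAlgHom k A b * lin ξ a :=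
  ξ.leibniz a b

theorem lin_one (ξ : LieHopf.Lie k A) : lin ξ 1 = 0 := ξ.map_one_eq_zero

theorem actL_coef {V : Type w} [AddCommGroup V] [Module k V] [Comod k A V] (f : A →ₗ[k] k)
    (g : V →ₗ[k] k) (v : V) :
    actL f (sliceL g (Comod.coact (k := k) (A := A) v)) =
      sliceL g (Comod.coact (k := k) (A := A) (actL f v)) := by
  refine sub_eq_zero.1 ((Module.forall_dual_apply_eq_zero_iff k _).1 fun φ => ?_)
  rw [map_sub, sub_eq_zero]
  calc φ (actL f (sliceL g (Comod.coact (k := k) (A := A) v)))
      = H20Comod.conv φ f (sliceL g (Comod.coact (k := k) (A := A) v)) := (conv_apply_sliceR φ f _).symm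
    _ = g (actL (H20Comod.conv φ f) v) := (apply_sliceR_eq_apply_sliceL g _ _).symm
    _ = g (actL φ (actL f v)) := by rw [actL_conv]
    _ = φ (sliceL g (Comod.coact (k := k) (A := A) (actL f v))) := apply_sliceR_eq_apply_sliceL g φ _

theorem sliceR_mul (ξ : LieHopf.Lie k A) (z w : A ⊗[k] A) :
    sliceR (lin ξ) (z * w) = sliceR (CoalgebraStruct.counit (R := k)) z * sliceR (lin ξ) w +
      sliceR (CoalgebraStruct.counit (R := k)) w * sliceR (lin ξ) z := by
  induction z using TensorProduct.induction_on with
  | zero => simp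
  | tmul p q =>
    induction w using TensorProduct.induction_on with
    | zero => simp
    | tmul r s =>
      simp only [Algebra.TensorProduct.tmul_mul_tmul, sliceR_tmul, lin_mul, add_smul, smul_mul_smul_comm,
        mul_comm r p]
      rfl
    | add x y hx hy => simp only [map_add, mul_add, hx, hy, add_mul]; abel
  | add x y hx hy => simp only [map_add, mul_add, hx, hy, add_mul]; abel

theorem actL_lin_mul (ξ : LieHopf.Lie k A) (a b : A) :
    actL (lin ξ) (a * b) = a * actL (lin ξ) b + b * actL (lin ξ) a := by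
  have h : ∀ c : A, sliceR (CoalgebraStruct.counit (R := k)) (CoalgebraStruct.comul (R := k) c) = c :=
    fun c => actL_counit (k := k) (A := A) c
  show sliceR (lin ξ) (CoalgebraStruct.comul (R := k) (a * b)) = _
  rw [Bialgebra.comul_mul, sliceR_mul, h, h]
  rfl

theorem actL_lin_one (ξ : LieHopf.Lie k A) : actL (lin ξ) (1 : A) = 0 := by
  show sliceR (lin ξ) (CoalgebraStruct.comul (R := k) (1 : A)) = _
  rw [Bialgebra.comul_one, Algebra.TensorProduct.one_def, sliceR_tmul, lin_one, zero_smul]

theorem counit_actL (f : A →ₗ[k] k) (a : A) :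
    CoalgebraStruct.counit (R := k) (actL f a) = f a := by
  have h := conv_apply_sliceR (CoalgebraStruct.counit (R := k)) f a
  rw [counit_conv] at h
  exact h.symm

variable (k A) in
/-- The augmentation ideal. -/
abbrev aug : Ideal A := RingHom.ker (Bialgebra.counitAlgHom k A)

theorem sub_mem_aug (a : A) : a - algebraMap k A (Bialgebra.counitAlgHom k A a) ∈ aug k A := by simp

/-- Euler vector field: some points `x i` and `ξ i` recover the linear part of every function at the unit. -/
theorem exists_dual_lie [Algebra.FiniteType k A] :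
    ∃ (n : ℕ) (x : Fin n → A) (ξ : Fin n → LieHopf.Lie k A), (∀ i, x i ∈ aug k A) ∧
      ∀ u ∈ aug k A, u - ∑ i, lin (ξ i) u • x i ∈ aug k A ^ 2 := by
  classical
  haveI : IsNoetherianRing A := Algebra.FiniteType.isNoetherianRing k A
  let ε : A →ₐ[k] k := Bialgebra.counitAlgHom k A
  let m : Ideal A := aug k A
  haveI : Module.Finite A m := Module.Finite.iff_fg.mpr (IsNoetherian.noetherian m)
  have hmem : ∀ a, a - algebraMap k A (ε a) ∈ m := sub_mem_aug
  have hsmul : ∀ (a : A) (z : m.Cotangent), a • z = (ε a) • z := by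
    intro a z
    obtain ⟨y, rfl⟩ := m.toCotangent_surjective z
    rw [← algebraMap_smul A (ε a), ← sub_eq_zero, ← sub_smul, ← map_smul, Ideal.toCotangent_eq_zero]
    rw [pow_two]
    exact Ideal.mul_mem_mul (hmem a) y.2
  haveI : Module.Finite A m.Cotangent := Module.Finite.of_surjective m.toCotangent m.toCotangent_surjective
  haveI : Module.Finite k m.Cotangent := by
    obtain ⟨t, ht⟩ := (Module.Finite.fg_top : (⊤ : Submodule A m.Cotangent).FG)
    refine ⟨⟨t, eq_top_iff.mpr fun z htop => ?_⟩⟩
    clear htop
    have hz : z ∈ Submodule.span A (t : Set m.Cotangent) := ht ▸ Submodule.mem_top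
    induction hz using Submodule.span_induction with
    | mem y hy => exact Submodule.subset_span hy
    | zero => exact zero_mem _
    | add y y' _ _ hy hy' => exact add_mem hy hy'
    | smul a y _ hy => rw [hsmul]; exact Submodule.smul_mem _ _ hy
  let b := Module.finBasis k m.Cotangent
  choose x hx using fun i => m.toCotangent_surjective (b i)
  let π : A →ₗ[k] m.Cotangent :=
    (m.toCotangent.restrictScalars k) ∘ₗ
      (LinearMap.codRestrict (m.restrictScalars k)
        (LinearMap.id - (Algebra.linearMap k A) ∘ₗ ε.toLinearMap) hmem)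
  have hπ : ∀ a a', π (a * a') = ε a • π a' + ε a' • π a := by
    intro a a'
    rw [← hsmul, ← hsmul]
    show m.toCotangent ⟨_, _⟩ = _ • m.toCotangent ⟨_, _⟩ + _ • m.toCotangent ⟨_, _⟩
    rw [← map_smul, ← map_smul, ← map_add, Ideal.toCotangent_eq]
    have := neg_mem (Ideal.mul_mem_mul (hmem a) (hmem a'))
    rw [← pow_two] at this
    convert this using 1
    simp
    ring
  let τ : Fin (Module.finrank k m.Cotangent) → A →ₗ[k] LieHopf.K k A := fun i => (b.coord i) ∘ₗ π
  let ξ : Fin (Module.finrank k m.Cotangent) → LieHopf.Lie k A := fun i => Derivation.mk' (τ i) fun a a' => by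
    show (b.coord i) (π (a * a')) = ε a * (b.coord i) (π a') + ε a' * (b.coord i) (π a)
    rw [hπ, map_add, map_smul, map_smul]
    rfl
  refine ⟨_, fun i => (x i : A), ξ, fun i => (x i).2, fun u hu => ?_⟩
  have hπu : π u = m.toCotangent ⟨u, hu⟩ := by
    refine congrArg m.toCotangent (Subtype.ext ?_)
    show u - algebraMap k A (ε u) = u
    rw [show ε u = 0 from hu, map_zero, sub_zero]
  have hs : m.toCotangent ⟨u, hu⟩ =
      m.toCotangent (∑ i, algebraMap k A (lin (ξ i) u) • x i) := by
    rw [map_sum, ← hπu]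
    conv_lhs => rw [← b.sum_repr (π u)]
    exact Finset.sum_congr rfl fun i _ => by rw [map_smul, hx, algebraMap_smul]; rfl
  rw [Ideal.toCotangent_eq, Submodule.coe_sum] at hs
  convert hs using 2
  exact Finset.sum_congr rfl fun i _ => by simp [Algebra.smul_def]

theorem mem_pow_aug_of_stable [CharZero k] [Algebra.FiniteType k A] (W : Submodule k A)
    (hW : ∀ (ξ : LieHopf.Lie k A), ∀ a ∈ W, actL (lin ξ) a ∈ W)
    (hε : ∀ a ∈ W, a ∈ aug k A) (s : ℕ) : ∀ a ∈ W, a ∈ aug k A ^ s := by
  obtain ⟨n, x, ξ, hx, hu⟩ := exists_dual_lie (k := k) (A := A)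
  let D : A →ₗ[k] A := ∑ i, (LinearMap.mulLeft k (x i)) ∘ₗ actL (lin (ξ i))
  have hD : ∀ a, D a = ∑ i, x i * actL (lin (ξ i)) a := fun a => by simp [D]
  have hleib : ∀ a b, D (a * b) = a * D b + b * D a := fun a b => by
    simp only [hD, actL_lin_mul, Finset.mul_sum, ← Finset.sum_add_distrib]
    exact Finset.sum_congr rfl fun i _ => by ring
  have hD1 : ∀ u ∈ aug k A, D u - u ∈ aug k A ^ 2 := by
    intro u hu'
    have h1 : D u - ∑ i, lin (ξ i) u • x i ∈ aug k A ^ 2 := by
      rw [hD, ← Finset.sum_sub_distrib, pow_two]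
      refine sum_mem fun i _ => ?_
      rw [Algebra.smul_def, mul_comm (algebraMap k A _), ← mul_sub]
      refine Ideal.mul_mem_mul (hx i) ?_
      rw [← counit_actL (lin (ξ i)) u]
      exact sub_mem_aug _
    have := sub_mem h1 (hu u hu')
    simpa using this
  have hDs : ∀ (s : ℕ), ∀ a ∈ aug k A ^ (s + 1), D a - (s + 1 : ℕ) * a ∈ aug k A ^ (s + 2) := by
    intro s
    induction s with
    | zero =>
      intro a ha
      rw [zero_add, pow_one] at ha
      simpa using hD1 a ha
    | succ s ih =>
      intro a ha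
      rw [pow_succ] at ha
      refine Submodule.mul_induction_on ha (fun b hb c hc => ?_) (fun b c hb hc => ?_)
      · have e : D (b * c) - ((s + 1 + 1 : ℕ) : A) * (b * c) =
            b * (D c - c) + (D b - ((s + 1 : ℕ) : A) * b) * c := by
          rw [hleib]
          push_cast
          ring
        rw [e]
        refine add_mem ?_ ?_
        · rw [show s + 1 + 2 = s + 1 + 2 from rfl, pow_add]
          exact Ideal.mul_mem_mul hb (hD1 c hc)
        · rw [pow_succ]
          exact Ideal.mul_mem_mul (ih b hb) hc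
      · rw [map_add, mul_add, add_sub_add_comm]
        exact add_mem hb hc
  induction s with
  | zero => intro a _; simp
  | succ s ih =>
    rcases s with _ | s
    · intro a ha; simpa using hε a ha
    intro a ha
    have h1 : D a ∈ aug k A ^ (s + 2) := by
      rw [hD]
      refine sum_mem fun i _ => ?_
      rw [pow_succ' (aug k A) (s + 1)]
      exact Ideal.mul_mem_mul (hx i) (ih _ (hW (ξ i) a ha))
    have h2 := sub_mem h1 (hDs s a (ih a ha))
    rw [sub_sub_cancel] at h2
    have hunit : IsUnit ((s + 1 : ℕ) : A) := by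
      rw [← map_natCast (algebraMap k A)]
      exact (isUnit_iff_ne_zero.2 (Nat.cast_ne_zero.2 (Nat.succ_ne_zero s))).map _
    exact (Ideal.unit_mul_mem_iff_mem _ hunit).1 h2

theorem finite_range_points [IsAlgClosed k] [CharZero k] [Algebra.FiniteType k A] (a : A)
    (ha : ∀ ξ : LieHopf.Lie k A, actL (lin ξ) a = 0) :
    (Set.range fun g : A →ₐ[k] k => g a).Finite := by
  classical
  haveI : IsNoetherianRing A := Algebra.FiniteType.isNoetherianRing k A
  have key : ∀ g : A →ₐ[k] k, ∃ f : A, g f = 1 ∧ f * (a - algebraMap k A (g a)) = 0 := by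
    intro g
    let g' := g.comp (HopfAlgebra.antipodeAlgHom k A)
    obtain ⟨e1, e2⟩ := T_antipode g
    have hstab : ∀ ξ : LieHopf.Lie k A, actL (lin ξ) (T g a - algebraMap k A (g a)) = 0 := by
      intro ξ
      rw [map_sub, Algebra.algebraMap_eq_smul_one, map_smul, actL_lin_one, smul_zero, sub_zero,
        T_apply]
      show actL (lin ξ) (sliceL g.toLinearMap (Comod.coact (k := k) (A := A) a)) = 0
      rw [actL_coef, ha, map_zero, map_zero]
    have hε : T g a - algebraMap k A (g a) ∈ aug k A := by
      rw [← counit_T g a]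
      exact sub_mem_aug _
    set b := T g a - algebraMap k A (g a) with hb
    have hmem : b ∈ ⨅ i : ℕ, aug k A ^ i • (⊤ : Submodule A A) := by
      rw [Submodule.mem_iInf]
      intro i
      rw [smul_eq_mul, Ideal.mul_top]
      refine mem_pow_aug_of_stable (Submodule.span k {b}) (fun ξ c hc => ?_) (fun c hc => ?_) i b
        (Submodule.mem_span_singleton_self b)
      · obtain ⟨r, rfl⟩ := Submodule.mem_span_singleton.1 hc
        rw [map_smul, hstab, smul_zero]
        exact zero_mem _
      · obtain ⟨r, rfl⟩ := Submodule.mem_span_singleton.1 hc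
        rw [Algebra.smul_def]
        exact Ideal.mul_mem_left _ _ hε
    obtain ⟨r, hr⟩ := ((aug k A).mem_iInf_smul_pow_eq_bot_iff b).1 hmem
    refine ⟨T g' (1 - (r : A)), ?_, ?_⟩
    · rw [← counit_T g, ← AlgHom.comp_apply, e1]
      show Bialgebra.counitAlgHom k A (1 - (r : A)) = 1
      rw [map_sub, map_one, show Bialgebra.counitAlgHom k A (r : A) = 0 from r.2, sub_zero]
    · have h : T g' ((1 - (r : A)) * b) = 0 := by
        rw [sub_mul, one_mul, show (r : A) * b = b from hr, sub_self, map_zero]
      rw [map_mul, hb] at h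
      rwa [map_sub (T g') (T g a), AlgHom.commutes, ← AlgHom.comp_apply, e2, AlgHom.id_apply] at h
  choose f hf1 hf2 using key
  have htop : Ideal.span (Set.range f) = ⊤ := by
    by_contra h
    obtain ⟨g, hg⟩ := exists_point_le_ker (k := k) h
    have := hg (Ideal.subset_span ⟨g, rfl⟩)
    rw [RingHom.mem_ker, hf1] at this
    exact one_ne_zero this
  obtain ⟨S, hS, h1⟩ := Submodule.mem_span_finite_of_mem_span (htop ▸ Submodule.mem_top : (1 : A) ∈ Ideal.span (Set.range f))
  choose idx hidx using fun s : S => hS s.2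
  refine Set.Finite.subset (Set.finite_range fun s : S => idx s a) ?_
  rintro _ ⟨h, rfl⟩
  by_contra hne
  have hle : Submodule.span A (S : Set A) ≤ RingHom.ker h := by
    refine Submodule.span_le.2 fun s hs => ?_
    have := congrArg h (hf2 (idx ⟨s, hs⟩))
    rw [hidx ⟨s, hs⟩, map_mul, map_sub, AlgHom.commutes, map_zero] at this
    refine (mul_eq_zero.1 this).resolve_right fun h0 => hne ⟨⟨s, hs⟩, ?_⟩
    exact (sub_eq_zero.1 h0).symm
  exact one_ne_zero ((map_one h).symm.trans (hle h1 : h 1 = 0))

theorem eq_zero_of_primitive [IsAlgClosed k] [CharZero k] [Algebra.FiniteType k A] {x : A}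
    (hx : CoalgebraStruct.comul (R := k) x = x ⊗ₜ[k] (1 : A) + (1 : A) ⊗ₜ[k] x)
    (hξ : ∀ ξ : LieHopf.Lie k A, lin ξ x = 0) : x = 0 := by
  have hact : ∀ ξ : LieHopf.Lie k A, actL (lin ξ) x = 0 := fun ξ => by
    show sliceR (lin ξ) (CoalgebraStruct.comul (R := k) x) = 0
    rw [hx, map_add, sliceR_tmul, sliceR_tmul, lin_one, hξ, zero_smul, zero_smul, add_zero]
  have hmul : ∀ (g h : A →ₐ[k] k),
      (WithConv.toConv g * WithConv.toConv h).ofConv x = g x + h x := fun g h => by
    simp only [AlgHom.convMul_def, WithConv.ofConv_toConv, AlgHom.comp_apply, Bialgebra.comulAlgHom_apply, hx,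
      map_add, Algebra.TensorProduct.map_tmul, Algebra.TensorProduct.lmul'_apply_tmul, map_one, mul_one, one_mul]
  have hε : Bialgebra.counitAlgHom k A x = 0 := by
    have := hmul (Bialgebra.counitAlgHom k A) (Bialgebra.counitAlgHom k A)
    have h1 : (WithConv.toConv (Bialgebra.counitAlgHom k A) * WithConv.toConv (Bialgebra.counitAlgHom k A)).ofConv
        = Bialgebra.counitAlgHom k A := by
      refine AlgHom.toLinearMap_injective ?_
      show H20Comod.conv (CoalgebraStruct.counit (R := k) (A := A)) (CoalgebraStruct.counit (R := k)) = _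
      rw [counit_conv]
      rfl
    rw [h1] at this
    simpa using this
  have hpt : ∀ g : A →ₐ[k] k, g x = 0 := by
    intro g
    by_contra hg
    have hN : ∀ N : ℕ, ∃ h : A →ₐ[k] k, h x = N • g x := by
      intro N
      induction N with
      | zero => exact ⟨_, hε.trans (zero_smul ℕ _).symm⟩
      | succ N ih =>
        obtain ⟨h, hh⟩ := ih
        exact ⟨(WithConv.toConv h * WithConv.toConv g).ofConv, by rw [hmul, hh, succ_nsmul]⟩
    refine (finite_range_points x hact).not_infinite ?_
    refine Set.Infinite.mono ?_ (Set.infinite_range_of_injective (f := fun N : ℕ => N • g x) ?_)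
    · rintro _ ⟨N, rfl⟩
      obtain ⟨h, hh⟩ := hN N
      exact ⟨h, hh⟩
    · intro M N h
      simp only [nsmul_eq_mul] at h
      exact Nat.cast_injective (mul_right_cancel₀ hg h)
  haveI := H19Grp.HopfReduced.isReduced_of_finiteType (k := k) (A := A)
  by_contra hne
  haveI : IsJacobsonRing A := isJacobsonRing_of_finiteType (A := k)
  refine hne (IsReduced.eq_zero x ?_)
  rw [← mem_nilradical, nilradical, Ideal.radical_eq_jacobson, Ideal.jacobson, Ideal.mem_sInf]
  rintro M ⟨-, hM⟩
  obtain ⟨g, hg⟩ := exists_point_le_ker (k := k) hM.ne_top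
  rw [hM.eq_of_le (RingHom.ker_ne_top _) hg]
  exact hpt g

theorem eq_algebraMap_of_forall_actL [IsAlgClosed k] [CharZero k] [Algebra.FiniteType k A]
    (hU : IsUnipotent k A) {a : A} (ha : ∀ ξ : LieHopf.Lie k A, actL (lin ξ) a = 0) :
    a = CoalgebraStruct.counit (R := k) a • (1 : A) := by
  obtain ⟨n, hn⟩ := exists_mem_coFil hU a
  induction n generalizing a with
  | zero =>
    rw [coFil_zero, Submodule.mem_span_singleton] at hn
    obtain ⟨c, rfl⟩ := hn
    rw [map_smul, Bialgebra.counit_one, smul_eq_mul, mul_one]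
  | succ n ih =>
    let ε := CoalgebraStruct.counit (R := k) (A := A)
    set x := a - ε a • (1 : A) with hxdef
    have hεslice : sliceL ε (CoalgebraStruct.comul (R := k) a) = a := by
      refine sub_eq_zero.1 ((Module.forall_dual_apply_eq_zero_iff k _).1 fun q => ?_)
      rw [map_sub, ← conv_apply_sliceL, counit_conv, sub_self]
    have hz : ∀ φ : A →ₗ[k] k, φ 1 = 0 → sliceL φ (CoalgebraStruct.comul (R := k) a) = φ a • (1 : A) := by
      intro φ hφ
      have hmem : sliceL φ (CoalgebraStruct.comul (R := k) a) ∈ coFil k A n := by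
        refine sliceL_mem_coFil_of_vanish (i := 0) (by omega) hn fun y hy => ?_
        rw [coFil_zero, Submodule.mem_span_singleton] at hy
        obtain ⟨c, rfl⟩ := hy
        rw [map_smul, hφ, smul_zero]
      have hb := ih (a := sliceL φ (CoalgebraStruct.comul (R := k) a)) (fun ξ => by
        show actL (lin ξ) (sliceL φ (Comod.coact (k := k) (A := A) a)) = 0
        rw [actL_coef, ha, map_zero, map_zero]) hmem
      rw [hb, ← conv_apply_sliceL, conv_counit]
    have hprim : CoalgebraStruct.comul (R := k) x = x ⊗ₜ[k] (1 : A) + (1 : A) ⊗ₜ[k] x := by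
      refine eq_of_forall_sliceL fun φ => ?_
      have h1 := hz (φ - φ 1 • ε) (by simp [ε, Bialgebra.counit_one])
      have h2 : sliceL φ (CoalgebraStruct.comul (R := k) a) =
          (φ a - φ 1 * ε a) • (1 : A) + φ 1 • a := by
        conv_lhs => rw [show φ = (φ - φ 1 • ε) + φ 1 • ε from (sub_add_cancel _ _).symm]
        have hadd : ∀ (p q : A →ₗ[k] k) (z : A ⊗[k] A), sliceL (p + q) z = sliceL p z + sliceL q z :=
          fun p q z => by simp [sliceL, LinearMap.rTensor_add]
        have hsm : ∀ (c : k) (p : A →ₗ[k] k) (z : A ⊗[k] A), sliceL (c • p) z = c • sliceL p z :=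
          fun c p z => by simp [sliceL, LinearMap.rTensor_smul]
        rw [hadd, hsm, h1, hεslice]
        simp
      simp only [hxdef, map_sub, map_smul, Bialgebra.comul_one, Algebra.TensorProduct.one_def, map_add,
        sliceL_tmul, h2, smul_sub, sub_smul, smul_smul, smul_eq_mul, mul_comm (φ 1) (ε a)]
      abel
    have : x = 0 := eq_zero_of_primitive hprim fun ξ => by
      have h := congrArg (CoalgebraStruct.counit (R := k)) (ha ξ)
      rw [counit_actL, map_zero] at h
      rw [hxdef, map_sub, map_smul, h, lin_one, smul_zero, sub_zero]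
    exact sub_eq_zero.1 this

/-- A space of functions stable under the Lie algebra and vanishing at the unit is zero. -/
theorem eq_zero_of_stable [IsAlgClosed k] [CharZero k] [Algebra.FiniteType k A]
    (hU : IsUnipotent k A) (W : Submodule k A) (hW : ∀ (ξ : LieHopf.Lie k A), ∀ a ∈ W, actL (lin ξ) a ∈ W)
    (hε : ∀ a ∈ W, CoalgebraStruct.counit (R := k) a = 0) {a : A} (ha : a ∈ W) : a = 0 := by
  obtain ⟨n, hn⟩ := exists_mem_coFil hU a
  induction n generalizing a with
  | zero =>
    rw [coFil_zero, Submodule.mem_span_singleton] at hn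
    obtain ⟨c, rfl⟩ := hn
    have h := hε _ ha
    rw [map_smul, Bialgebra.counit_one, smul_eq_mul, mul_one] at h
    rw [h, zero_smul]
  | succ n ih =>
    have h0 : ∀ ξ : LieHopf.Lie k A, actL (lin ξ) a = 0 := fun ξ => by
      refine ih (hW ξ a ha) (mem_coFil.2 fun q hq => ?_)
      rw [actL_apply]
      show q (sliceR (lin ξ) (CoalgebraStruct.comul (R := k) a)) = 0
      rw [← conv_apply_sliceR]
      refine mem_coFil.1 hn _ ?_
      have := conv_mem_augPow hq (mem_augPow_one (lin_one ξ))
      rwa [show 1 + (n + 1) = n + 1 + 1 by omega] at this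
    rw [eq_algebraMap_of_forall_actL hU h0, hε a ha, zero_smul]

end

end Groth.Agent.H20Inf
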